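import Mathlib

/-!
Two criteria for simplicity of a permutation group.
-/

namespace Cfsg.Lib.Simplicity

open MulAction

variable {G α : Type*} [Group G] [MulAction G α] [FaithfulSMul G α]

theorem normal_pretransitive [IsPreprimitive G α] {N : Subgroup G} [N.Normal] (hN : N ≠ ⊥) :
    IsPretransitive N α := by
  refine IsQuasiPreprimitive.isPretransitive_of_normal fun hfix => hN ?_
  rw [Subgroup.eq_bot_iff_forall]
  intro g hg
  refine FaithfulSMul.eq_of_smul_eq_smul (α := α) fun a => ?_
  have : a ∈ fixedPoints N α := hfix ▸ Set.mem_univ a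
  simpa using this ⟨g, hg⟩

/-- Primitive, degree divisible by a prime exactly dividing the order, generated by elements of that order. -/
theorem isSimpleGroup_of_prime_degree_divisor [Finite G] [Nonempty α] [Nontrivial G] [IsPreprimitive G α]
    {p : ℕ} (hp : p.Prime) (hdeg : p ∣ Nat.card α) (hsq : ¬ p ^ 2 ∣ Nat.card G)
    (hgen : Subgroup.closure {g : G | g ^ p = 1} = ⊤) : IsSimpleGroup G := by
  refine ⟨fun N hN => or_iff_not_imp_left.mpr fun hne => ?_⟩
  have := normal_pretransitive (α := α) hne
  obtain ⟨a⟩ := ‹Nonempty α›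
  have hdvd : p ∣ Nat.card N := by
    refine hdeg.trans ⟨Nat.card (stabilizer N a), ?_⟩
    rw [← index_stabilizer_of_transitive N a, Subgroup.index_mul_card]
  rw [eq_top_iff, ← hgen, Subgroup.closure_le]
  intro g hg
  have h1 : (QuotientGroup.mk g : G ⧸ N) ^ p = 1 := by
    rw [← QuotientGroup.mk_pow, show g ^ p = 1 from hg, QuotientGroup.mk_one]
  have hcop : ¬ p ∣ Nat.card (G ⧸ N) := fun hd => hsq <| by
    rw [Subgroup.card_eq_card_quotient_mul_card_subgroup N, pow_two]
    exact mul_dvd_mul hd hdvd
  have : orderOf (QuotientGroup.mk g : G ⧸ N) = 1 := by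
    rcases (Nat.dvd_prime hp).mp (orderOf_dvd_of_pow_eq_one h1) with h | h
    · exact h
    · exact absurd (h ▸ orderOf_dvd_natCard _) hcop
  exact (QuotientGroup.eq_one_iff g).mp (orderOf_eq_one_iff.mp this)

/-- 2-transitive with simple point stabiliser, degree not a prime power. -/
theorem isSimpleGroup_of_simple_stabilizer [Finite G] [Finite α] (a : α)
    (h2 : IsMultiplyPretransitive G α 2) [hs : IsSimpleGroup (stabilizer G a)]
    {p q : ℕ} (hp : p.Prime) (hq : q.Prime) (hpq : p ≠ q) (hpd : p ∣ Nat.card α) (hqd : q ∣ Nat.card α) :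
    IsSimpleGroup G := by
  have : IsPreprimitive G α := isPreprimitive_of_is_two_pretransitive h2
  have : Nontrivial G := by
    obtain ⟨x, y, hxy⟩ := exists_pair_ne (stabilizer G a)
    exact ⟨x, y, fun h => hxy (Subtype.ext h)⟩
  refine ⟨fun N hN => or_iff_not_imp_left.mpr fun hne => ?_⟩
  have := normal_pretransitive (α := α) hne
  rcases hs.eq_bot_or_eq_top_of_normal (N.subgroupOf (stabilizer G a)) inferInstance with h | h
  · exfalso
    have : Nontrivial α := Finite.one_lt_card_iff_nontrivial.mp
      (lt_of_lt_of_le hp.one_lt (Nat.le_of_dvd (Nat.card_pos_iff.mpr ⟨⟨a⟩, inferInstance⟩) hpd))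
    have hfree : ∀ x : N, (x : G) • a = a → x = 1 := by
      intro x hx
      have : (⟨x, hx⟩ : stabilizer G a) ∈ N.subgroupOf (stabilizer G a) := x.2
      rw [h, Subgroup.mem_bot] at this
      exact Subtype.ext (congrArg (fun z : stabilizer G a => (z : G)) this :)
    have hinj : Function.Injective fun x : N => (x : G) • a := by
      intro x y hxy
      have h' : ((y⁻¹ * x : N) : G) • a = a := by
        simp only [Subgroup.coe_mul, Subgroup.coe_inv, mul_smul]
        simp only at hxy
        rw [hxy, inv_smul_smul]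
      exact (inv_mul_eq_one.mp (hfree _ h')).symm
    have hcard : Nat.card N = Nat.card α := by
      refine Nat.card_eq_of_bijective _ ⟨hinj, fun b => ?_⟩
      obtain ⟨x, hx⟩ := exists_smul_eq N a b
      exact ⟨x, hx⟩
    have hconj : ∀ x y : N, x ≠ 1 → y ≠ 1 → orderOf x = orderOf y := by
      intro x y hx hy
      have hxa : (x : G) • a ≠ a := fun e => hx (hfree x e)
      have hya : (y : G) • a ≠ a := fun e => hy (hfree y e)
      obtain ⟨g, hga, hgx⟩ := (is_two_pretransitive_iff.mp h2) hxa.symm hya.symm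
      have hmem : g * (x : G) * g⁻¹ ∈ N := hN.conj_mem x x.2 g
      have : (⟨g * x * g⁻¹, hmem⟩ : N) = y := by
        refine hinj ?_
        show (g * (x : G) * g⁻¹) • a = (y : G) • a
        rw [mul_smul, mul_smul, inv_smul_eq_iff.mpr hga.symm, hgx]
      rw [← Subgroup.orderOf_coe x, ← Subgroup.orderOf_coe y, ← this]
      exact (orderOf_injective (MulAut.conj g).toMonoidHom (MulAut.conj g).injective (x : G)).symm
    have := Fact.mk hp
    have := Fact.mk hq
    obtain ⟨x, hx⟩ := exists_prime_orderOf_dvd_card' (G := N) p (hcard.symm ▸ hpd)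
    obtain ⟨y, hy⟩ := exists_prime_orderOf_dvd_card' (G := N) q (hcard.symm ▸ hqd)
    refine hpq (hx ▸ hy ▸ hconj x y ?_ ?_)
    · intro e; rw [e, orderOf_one] at hx; exact hp.one_lt.ne hx
    · intro e; rw [e, orderOf_one] at hy; exact hq.one_lt.ne hy
  · rw [eq_top_iff]
    intro g _
    obtain ⟨x, hx⟩ := exists_smul_eq N a (g • a)
    have hs' : (x : G)⁻¹ * g ∈ stabilizer G a := by
      rw [mem_stabilizer_iff, mul_smul, ← hx]
      exact inv_smul_smul _ _
    have : (⟨_, hs'⟩ : stabilizer G a) ∈ N.subgroupOf (stabilizer G a) := h ▸ Subgroup.mem_top _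
    have := N.mul_mem x.2 (Subgroup.mem_subgroupOf.mp this)
    simpa using this

end Cfsg.Lib.Simplicity
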